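import Cfsg.Agent.Solvable.ThompsonFPF
import Cfsg.Agent.Char.Burnside
import Cfsg.Agent.S0108

/-!
Kegel's theorem: if `H` is normal in `G` and every element outside `H` has order dividing the
prime `p`, then `H` is nilpotent; if moreover `G` is not a `p`-group, `H` has index `p`.
-/

namespace Cfsg.Agent.Solvable

open Subgroup
open scoped IsMulCommutative

universe u

variable {G : Type u} [Group G]

theorem mul_pow_conj (V : Subgroup G) [V.Normal] [IsMulCommutative V] (y : G) (v : V) (n : ℕ) :
    ((v : G) * y) ^ n = ((∏ i ∈ Finset.range n, MulAut.conjNormal (y ^ i) v : V) : G) * y ^ n := by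
  induction n with
  | zero => simp
  | succ n ih =>
    rw [pow_succ, ih, Finset.prod_range_succ, Subgroup.coe_mul, MulAut.conjNormal_apply, pow_succ]
    group

/-- The norm of an element outside `H` vanishes on an abelian normal subgroup inside `H`. -/
theorem norm_eq_one {H : Subgroup G} {p : ℕ} (hout : ∀ g : G, g ∉ H → g ^ p = 1)
    (V : Subgroup G) [V.Normal] [IsMulCommutative V] (hVH : V ≤ H) {y : G} (hy : y ∉ H) (v : V) :
    ∏ i ∈ Finset.range p, MulAut.conjNormal (y ^ i) v = (1 : V) := by
  have h1 := mul_pow_conj V y v p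
  have h2 : (v : G) * y ∉ H := fun h => hy (by simpa using H.mul_mem (H.inv_mem (hVH v.2)) h)
  rw [hout _ h2, hout y hy, mul_one] at h1
  exact Subtype.ext h1.symm

theorem normalizer_le_normalizer_centralizer_kegel (Q : Subgroup G) :
    normalizer (Q : Set G) ≤ normalizer ((centralizer (Q : Set G) : Subgroup G) : Set G) := by
  intro g hg
  refine mem_normalizer_iff.2 fun c => ?_
  have key : ∀ g : G, g ∈ normalizer (Q : Set G) → ∀ c ∈ centralizer (Q : Set G),
      g * c * g⁻¹ ∈ centralizer (Q : Set G) := by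
    intro g hg c hc y hy
    have h1 : g⁻¹ * y * g ∈ Q := by
      have := (mem_normalizer_iff.1 (inv_mem hg) y).1 hy
      simpa using this
    have h2 := hc _ h1
    calc y * (g * c * g⁻¹) = g * ((g⁻¹ * y * g) * c) * g⁻¹ := by group
      _ = g * (c * (g⁻¹ * y * g)) * g⁻¹ := by rw [h2]
      _ = g * c * g⁻¹ * y := by group
  refine ⟨key g hg c, fun h => ?_⟩
  have := key g⁻¹ (inv_mem hg) _ h
  simpa [mul_assoc] using this

theorem mul_pow_mem_mul {P : Subgroup G} {x : G} (hx : x ∈ normalizer (P : Set G)) (y : P)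
    (n : ℕ) : ((y : G) * x) ^ n * (x ^ n)⁻¹ ∈ P := by
  induction n with
  | zero => simp
  | succ n ih =>
    have h : (x ^ n) * (y : G) * (x ^ n)⁻¹ ∈ P := (mem_normalizer_iff.1 (pow_mem hx n) y).1 y.2
    have e : ((y : G) * x) ^ (n + 1) * (x ^ (n + 1))⁻¹ =
        (((y : G) * x) ^ n * (x ^ n)⁻¹) * ((x ^ n) * (y : G) * (x ^ n)⁻¹) := by
      rw [pow_succ, pow_succ]; group
    rw [e]
    exact mul_mem ih h

theorem centralizes_of_outside [Finite G] {H : Subgroup G} {p : ℕ} (hp : p.Prime)
    (hout : ∀ g : G, g ∉ H → g ^ p = 1) (V P : Subgroup G) [V.Normal] [IsMulCommutative V]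
    (hVH : V ≤ H) (hPH : P ≤ H) {x : G} (hx : x ∉ H) (hxP : x ∈ normalizer (P : Set G))
    (hcop : (Nat.card P).Coprime (Nat.card V)) : P ≤ centralizer (V : Set G) := by
  classical
  haveI : Fintype P := Fintype.ofFinite P
  let ρ : G →* MulAut V := MulAut.conjNormal
  let T : V →* V := ∏ y : P, (ρ y).toMonoidHom
  have hxy : ∀ y : P, (y : G) * x ∉ H := fun y h =>
    hx (by simpa using H.mul_mem (H.inv_mem (hPH y.2)) h)
  have hkey : ∀ v : V, v ^ Nat.card P = T v := by
    intro v
    let g : ℕ → P → V := fun i y => ρ (((y : G) * x) ^ i) v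
    have h1 : ∏ i ∈ Finset.range p, ∏ y : P, g i y = 1 := by
      rw [Finset.prod_comm]
      exact Finset.prod_eq_one fun y _ => norm_eq_one hout V hVH (hxy y) v
    have h2 : ∏ i ∈ Finset.range p, T (ρ (x ^ i) v) = 1 := by
      rw [← map_prod, norm_eq_one hout V hVH hx v, map_one]
    obtain ⟨s, rfl⟩ : ∃ s, p = s + 1 := ⟨p - 1, by have := hp.one_lt; omega⟩
    have h3 : ∀ i, i < s → ∏ y : P, g (i + 1) y = T (ρ (x ^ (i + 1)) v) := by
      intro i hi
      let σ : P → P := fun y => ⟨((y : G) * x) ^ (i + 1) * (x ^ (i + 1))⁻¹, mul_pow_mem_mul hxP y _⟩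
      have hσ : Function.Bijective σ := by
        refine Finite.injective_iff_bijective.1 fun a b h => ?_
        have h' : ((a : G) * x) ^ (i + 1) = ((b : G) * x) ^ (i + 1) :=
          mul_right_cancel (congrArg Subtype.val h :)
        have hc : ∀ c : P, (Nat.gcd (orderOf ((c : G) * x)) (i + 1)) = 1 := fun c => by
          have hd : orderOf ((c : G) * x) ∣ s + 1 := orderOf_dvd_of_pow_eq_one (hout _ (hxy c))
          refine Nat.eq_one_of_dvd_coprimes (a := s + 1) (b := i + 1) ?_
            ((Nat.gcd_dvd_left _ _).trans hd) (Nat.gcd_dvd_right _ _)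
          rw [hp.coprime_iff_not_dvd]
          exact fun hdd => absurd (Nat.le_of_dvd (Nat.succ_pos i) hdd) (by omega)
        obtain ⟨j, hj⟩ := Nat.exists_mul_mod_eq_one_of_coprime (n := i + 1) (k := s + 1)
          (by
            rw [Nat.coprime_comm, hp.coprime_iff_not_dvd]
            exact fun hdd => absurd (Nat.le_of_dvd (Nat.succ_pos i) hdd) (by omega)) hp.one_lt
        have h4 : ∀ c : P, (((c : G) * x) ^ (i + 1)) ^ j = (c : G) * x := fun c => by
          rw [← pow_mul, ← Nat.mod_add_div ((i + 1) * j) (s + 1), hj.2, pow_add, pow_mul _ (s + 1),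
            hout _ (hxy c), one_pow, mul_one, pow_one]
        have h5 : (a : G) * x = (b : G) * x := by rw [← h4 a, ← h4 b, h']
        exact Subtype.ext (mul_right_cancel h5)
      simp only [T, MonoidHom.finsetProd_apply]
      refine Fintype.prod_bijective σ hσ _ _ fun y => ?_
      show ρ (((y : G) * x) ^ (i + 1)) v = ρ ((σ y : P) : G) (ρ (x ^ (i + 1)) v)
      rw [← MulAut.mul_apply, ← map_mul]
      simp [σ]
    have h0 : ∏ y : P, g 0 y = v ^ Nat.card P := by
      have : ∀ y : P, g 0 y = v := fun y => by simp [g]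
      simp only [this, Finset.prod_const, Finset.card_univ, Nat.card_eq_fintype_card]
    rw [Finset.prod_range_succ', h0, Finset.prod_congr rfl fun i hi => h3 i (Finset.mem_range.1 hi)]
      at h1
    rw [Finset.prod_range_succ', pow_zero, map_one, MulAut.one_apply] at h2
    exact mul_left_cancel (h1.trans h2.symm)
  intro z hz w hw
  have hfix : ρ z ((⟨w, hw⟩ : V) ^ Nat.card P) = (⟨w, hw⟩ : V) ^ Nat.card P := by
    rw [hkey]
    simp only [T, MonoidHom.finsetProd_apply, map_prod]
    refine Fintype.prod_equiv (Equiv.mulLeft (⟨z, hz⟩ : P)) _ _ fun y => ?_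
    show ρ z (ρ (y : G) ⟨w, hw⟩) = ρ (z * (y : G)) ⟨w, hw⟩
    rw [map_mul, MulAut.mul_apply]
  rw [map_pow] at hfix
  have h5 : ρ z ⟨w, hw⟩ = ⟨w, hw⟩ := (powCoprime hcop.symm).injective hfix
  have h6 : z * w * z⁻¹ = w := congrArg Subtype.val h5
  calc w * z = z * w * z⁻¹ * z := by rw [h6]
    _ = z * w := by group

/-- The hypothesis of Kegel's theorem passes to quotients. -/
theorem outside_map {H : Subgroup G} {p : ℕ} (hout : ∀ g : G, g ∉ H → g ^ p = 1)
    (K : Subgroup G) [K.Normal] :
    ∀ g : G ⧸ K, g ∉ H.map (QuotientGroup.mk' K) → g ^ p = 1 := by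
  intro g hg
  obtain ⟨a, rfl⟩ := QuotientGroup.mk'_surjective K g
  rw [← map_pow, hout a fun h => hg (mem_map_of_mem _ h), map_one]

/-- The hypothesis of Kegel's theorem passes to subgroups. -/
theorem outside_subgroupOf {H : Subgroup G} {p : ℕ} (hout : ∀ g : G, g ∉ H → g ^ p = 1)
    (K : Subgroup G) : ∀ g : K, g ∉ H.subgroupOf K → g ^ p = 1 :=
  fun g hg => Subtype.ext (hout g hg)

theorem map_ne_top_of_le [Finite G] {H K : Subgroup G} [K.Normal] (hne : H ≠ ⊤) (hKH : K ≤ H) :
    H.map (QuotientGroup.mk' K) ≠ ⊤ := fun h => hne <| by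
  have := congrArg (Subgroup.comap (QuotientGroup.mk' K)) h
  rwa [comap_map_eq, QuotientGroup.ker_mk', sup_eq_left.2 hKH, comap_top] at this

theorem card_quotient_lt [Finite G] {K : Subgroup G} [K.Normal] (hK : K ≠ ⊥) :
    Nat.card (G ⧸ K) < Nat.card G := by
  have h1 := K.card_mul_index
  have h2 : 1 < Nat.card K := (Subgroup.one_lt_card_iff_ne_bot K).2 hK
  have h3 : 0 < Nat.card (G ⧸ K) := Nat.card_pos
  rw [Subgroup.index] at h1
  nlinarith

theorem exists_outside_normalizing [Finite G] {H : Subgroup G} [H.Normal] (hne : H ≠ ⊤) {q : ℕ}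
    [Fact q.Prime] (Q : Sylow q H) :
    ∃ y : G, y ∉ H ∧ y ∈ normalizer (((Q : Subgroup H).map H.subtype : Subgroup G) : Set G) := by
  by_contra! h
  apply hne
  have hle : normalizer (((Q : Subgroup H).map H.subtype : Subgroup G) : Set G) ≤ H :=
    fun y hy => by_contra fun hyH => h y hyH hy
  rw [← top_le_iff, ← Sylow.normalizer_sup_eq_top Q]
  exact sup_le hle le_rfl

theorem isNilpotent_of_outside_solvable_aux {p : ℕ} (hp : p.Prime) : ∀ (n : ℕ) (G : Type u)
    [Group G] [Finite G], Nat.card G ≤ n → ∀ H : Subgroup G, H.Normal → Group.IsSolvable H →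
      H ≠ ⊤ → (∀ g : G, g ∉ H → g ^ p = 1) → Group.IsNilpotent H := by
  intro n
  induction n with
  | zero =>
    intro G _ _ h
    exact absurd h (Nat.not_le_of_gt Nat.card_pos)
  | succ n ih =>
    intro G _ _ hn H hHn hsol hne hout
    rcases eq_or_ne H ⊥ with rfl | hbot
    · infer_instance
    have : Nontrivial H := (nontrivial_iff_ne_bot H).2 hbot
    obtain ⟨q, hq, hqne⟩ := Cores.exists_pCore_ne_bot (G := H)
    have : Fact q.Prime := ⟨hq⟩
    set W := (Cfsg.pCore q H).map H.subtype with hW
    have hWn : W.Normal := Cores.normal_map_subtype_of_characteristic _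
    have hWp : IsPGroup q W := Cores.pCore_isPGroup.map _
    have hWH : W ≤ H := map_subtype_le _
    have hWne : W ≠ ⊥ := by
      rw [Ne, hW, map_eq_bot_iff_of_injective _ H.subtype_injective]
      exact hqne
    set V := (center W).map W.subtype with hVdef
    have hVn : V.Normal := Cores.normal_map_subtype_of_characteristic _
    have hVW : V ≤ W := map_subtype_le _
    have hVH : V ≤ H := hVW.trans hWH
    have hVcomm : IsMulCommutative V := by
      refine ⟨⟨?_⟩⟩
      rintro ⟨_, a, ha, rfl⟩ ⟨_, b, hb, rfl⟩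
      refine Subtype.ext ?_
      show (a : G) * b = b * a
      exact congrArg Subtype.val (mem_center_iff.1 hb a)
    have hVne : V ≠ ⊥ := by
      rw [Ne, hVdef, map_eq_bot_iff_of_injective _ W.subtype_injective]
      have : Nontrivial W := (nontrivial_iff_ne_bot W).2 hWne
      exact (nontrivial_iff_ne_bot _).1 hWp.center_nontrivial
    have hlt := card_quotient_lt hVne
    have hnil : Group.IsNilpotent (H.map (QuotientGroup.mk' V)) :=
      ih (G ⧸ V) (by omega) _ (hHn.map _ (QuotientGroup.mk'_surjective V))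
        (Group.isSolvable_of_surjective ((QuotientGroup.mk' V).subgroupMap_surjective H))
        (map_ne_top_of_le hne hVH) (outside_map hout V)
    refine (Group.isNilpotent_of_finite_tfae.out 0 3 rfl rfl).2 fun r hr R => ?_
    set f := (QuotientGroup.mk' V).subgroupMap H
    have hsurj : Function.Surjective f := (QuotientGroup.mk' V).subgroupMap_surjective H
    have hker : f.ker = V.subgroupOf H := by
      ext z
      rw [MonoidHom.mem_ker, Subtype.ext_iff, mem_subgroupOf]
      exact QuotientGroup.eq_one_iff (z : G)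
    have hRV : ((R : Subgroup H) ⊔ V.subgroupOf H).Normal := by
      have h0 : (R : Subgroup H) ⊔ V.subgroupOf H =
          ((R.mapSurjective hsurj : Sylow r _) : Subgroup _).comap f := by
        change _ = ((R : Subgroup H).map f).comap f
        rw [comap_map_eq, hker]
      rw [h0]
      exact (inferInstance : ((R.mapSurjective hsurj : Sylow r _) : Subgroup _).Normal).comap f
    rcases eq_or_ne r q with rfl | hrq
    · have : (R : Subgroup H) ⊔ V.subgroupOf H = R := by
        refine sup_eq_left.2 ((?_ : V.subgroupOf H ≤ Cfsg.pCore r H).trans (Cores.pCore_le_sylow R))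
        intro z hz
        obtain ⟨z', hz', he⟩ := hVW hz
        rwa [← H.subtype_injective he]
      rwa [this] at hRV
    obtain ⟨y, hy, hyR⟩ := exists_outside_normalizing hne R
    obtain ⟨i, hi⟩ := IsPGroup.iff_card.1 R.2
    obtain ⟨j, hj⟩ := IsPGroup.iff_card.1 (hWp.to_le hVW)
    have hcop : (Nat.card ((R : Subgroup H).map H.subtype)).Coprime (Nat.card V) := by
      rw [card_map_of_injective H.subtype_injective, hi, hj]
      exact Nat.coprime_pow_primes i j hr.out hq hrq
    have hcen := centralizes_of_outside hp hout V ((R : Subgroup H).map H.subtype) hVH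
      (map_subtype_le _) hy hyR hcop
    refine ⟨fun a ha g => ?_⟩
    obtain ⟨b, hb, v, hv, hbv⟩ := mem_sup_of_normal_right.1 (hRV.conj_mem a (mem_sup_left ha) g)
    have hcomm : Commute b v :=
      Subtype.ext ((hcen (mem_map_of_mem H.subtype hb) (v : G) hv).symm)
    obtain ⟨k, hk⟩ := R.2 ⟨a, ha⟩
    have hk' : a ^ r ^ k = 1 := congrArg Subtype.val hk
    have h1 : b ^ r ^ k * v ^ r ^ k = 1 := by
      rw [← hcomm.mul_pow, hbv, conj_pow, hk', mul_one, mul_inv_cancel]
    have hv2 : v = 1 := by
      have hd2 : orderOf v ∣ q ^ j := by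
        rw [← Subgroup.orderOf_coe, ← hj]
        exact Subgroup.orderOf_dvd_natCard V hv
      have h7 : orderOf (b ^ r ^ k) ∣ r ^ i := hi ▸ Subgroup.orderOf_dvd_natCard _ (pow_mem hb _)
      have h8 : (b ^ r ^ k) = (v ^ r ^ k)⁻¹ := eq_inv_of_mul_eq_one_left h1
      rw [h8, orderOf_inv] at h7
      have h9 : orderOf (v ^ r ^ k) = 1 := Nat.eq_one_of_dvd_coprimes
        (Nat.coprime_pow_primes i j hr.out hq hrq) h7 ((orderOf_pow_dvd _).trans hd2)
      exact orderOf_eq_one_iff.1 (Nat.eq_one_of_dvd_coprimes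
        (Nat.coprime_pow_primes k j hr.out hq hrq)
        (orderOf_dvd_of_pow_eq_one (orderOf_eq_one_iff.1 h9)) hd2)
    rw [← hbv, hv2, mul_one]
    exact hb

theorem isNilpotent_of_outside_aux {p : ℕ} (hp : p.Prime) : ∀ (n : ℕ) (G : Type u) [Group G]
    [Finite G], Nat.card G ≤ n → ∀ H : Subgroup G, H.Normal → H ≠ ⊤ →
      (∀ g : G, g ∉ H → g ^ p = 1) → Group.IsNilpotent H := by
  intro n
  induction n with
  | zero =>
    intro G _ _ h
    exact absurd h (Nat.not_le_of_gt Nat.card_pos)
  | succ n ih =>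
    intro G _ _ hn H hHn hne hout
    have hdone : Group.IsSolvable H → Group.IsNilpotent H := fun hs =>
      isNilpotent_of_outside_solvable_aux hp _ G le_rfl H hHn hs hne hout
    -- a solvable normal subgroup inside `H` suffices
    have hnormal : ∀ K : Subgroup G, K.Normal → K ≤ H → K ≠ ⊥ → Group.IsSolvable K →
        Group.IsNilpotent H := by
      intro K hKn hKH hKne hKs
      have hlt := card_quotient_lt hKne
      have := ih (G ⧸ K) (by omega) _ (hHn.map _ (QuotientGroup.mk'_surjective K))
        (map_ne_top_of_le hne hKH) (outside_map hout K)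
      refine hdone (Group.isSolvable_of_ker_le_range (Subgroup.inclusion hKH)
        ((QuotientGroup.mk' K).subgroupMap H) fun z hz => ?_)
      rw [MonoidHom.mem_ker, Subtype.ext_iff] at hz
      exact ⟨⟨z, (QuotientGroup.eq_one_iff (z : G)).1 hz⟩, Subtype.ext rfl⟩
    by_cases hall : ∀ q ∈ (Nat.card H).primeFactors, q = 2 ∨ q = p
    · exact hdone (Cfsg.Agent.Char.solvable_of_card_eq_pow_mul_pow 2 p Nat.prime_two hp _ rfl
        fun r hr hd => hall r (Nat.mem_primeFactors.2 ⟨hr, hd, Nat.card_pos.ne'⟩))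
    push Not at hall
    obtain ⟨q, hqmem, hq2, -⟩ := hall
    obtain ⟨hq, hqH, -⟩ := Nat.mem_primeFactors.1 hqmem
    have : Fact q.Prime := ⟨hq⟩
    obtain ⟨Q⟩ := (inferInstance : Nonempty (Sylow q H))
    set Q' := (Q : Subgroup H).map H.subtype with hQ'
    have hQ'p : IsPGroup q Q' := Q.2.map _
    have hQ'H : Q' ≤ H := map_subtype_le _
    obtain ⟨y, hy, hyQ⟩ := exists_outside_normalizing hne Q
    -- the normalizer in `H` of a y-invariant nontrivial q-subgroup is nilpotent
    have hloc : ∀ S : Subgroup G, IsPGroup q S → S ≠ ⊥ → S ≤ H → y ∈ normalizer (S : Set G) →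
        Group.IsNilpotent H ∨ Group.IsNilpotent ↥(H ⊓ normalizer (S : Set G)) := by
      intro S hSp hSne hSH hyS
      by_cases htop : normalizer (S : Set G) = ⊤
      · exact Or.inl (hnormal S (normalizer_eq_top_iff.1 htop) hSH hSne
          (by have := hSp.isNilpotent; infer_instance))
      right
      have hlt : Nat.card (normalizer (S : Set G)) < Nat.card G :=
        lt_of_le_of_ne (Subgroup.card_le_card_group _) fun he =>
          htop (Subgroup.eq_top_of_card_eq _ he)
      have hnil := ih (normalizer (S : Set G)) (by omega) (H.subgroupOf _) inferInstance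
        (fun h => hy (subgroupOf_eq_top.1 h hyS)) (outside_subgroupOf hout _)
      refine Group.nilpotent_of_surjective
        (((normalizer (S : Set G)).subtype.comp (H.subgroupOf (normalizer (S : Set G))).subtype).codRestrict
          (H ⊓ normalizer (S : Set G)) (fun z => ⟨z.2, z.1.2⟩)) ?_
      exact fun z => ⟨⟨⟨z, z.2.2⟩, z.2.1⟩, rfl⟩
    set J := Cfsg.thompsonSubgroupOf q (Q : Subgroup H) with hJ
    set Z := (Q : Subgroup H) ⊓ centralizer ((Q : Subgroup H) : Set H) with hZ
    have hQdvd : q ∣ Nat.card (Q : Subgroup H) := Q.dvd_card_of_dvd_card hqH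
    have hQne : (Q : Subgroup H) ≠ ⊥ := Q.ne_bot_of_dvd_card hqH
    have hJne : J ≠ ⊥ := Modules.thompsonSubgroupOf_ne_bot hQdvd
    have hZne : Z ≠ ⊥ := by
      have : Nontrivial (Q : Subgroup H) := (nontrivial_iff_ne_bot _).2 hQne
      obtain ⟨z, hz, hz1⟩ := (nontrivial_iff_exists_ne_one _).1 Q.2.center_nontrivial
      intro hbot
      apply hz1
      have hzZ : (z : H) ∈ Z := ⟨z.2, fun w hw =>
        congrArg Subtype.val (mem_center_iff.1 hz ⟨w, hw⟩)⟩
      rw [hbot, mem_bot] at hzZ
      exact Subtype.ext hzZ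
    have hyJ : y ∈ normalizer ((J.map H.subtype : Subgroup G) : Set G) := by
      rw [hJ, Modules.map_thompsonSubgroupOf H.subtype_injective]
      exact Modules.normalizer_le_normalizer_thompsonSubgroupOf q Q' hyQ
    have hyZ : y ∈ normalizer ((Z.map H.subtype : Subgroup G) : Set G) := by
      rw [hZ, Modules.map_inf_centralizer H.subtype_injective]
      exact le_trans (le_inf le_rfl (normalizer_le_normalizer_centralizer_kegel Q'))
        inf_normalizer_le_normalizer_inf hyQ
    have hback : ∀ S : Subgroup H, ∀ K : Subgroup H,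
        K ≤ normalizer (S : Set H) → Group.IsNilpotent ↥(H ⊓ normalizer (S.map H.subtype : Set G)) →
        Group.IsNilpotent K := by
      intro S K hK hnil
      have hle : ∀ z : K, ((z : H) : G) ∈ H ⊓ normalizer (S.map H.subtype : Set G) := fun z =>
        ⟨z.1.2, S.le_normalizer_map H.subtype (mem_map_of_mem H.subtype (hK z.2))⟩
      have hinj : Function.Injective ((H.subtype.comp K.subtype).codRestrict _ hle) :=
        fun a b h => Subtype.ext (Subtype.ext (congrArg Subtype.val h :))
      exact Group.nilpotent_of_mulEquiv (MonoidHom.ofInjective hinj).symm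
    rcases hloc (J.map H.subtype) (hQ'p.to_le (map_mono (Modules.thompsonSubgroupOf_le q _)))
      (by rwa [Ne, map_eq_bot_iff_of_injective _ H.subtype_injective]) (map_subtype_le _) hyJ with
      h | h1
    · exact h
    rcases hloc (Z.map H.subtype) (hQ'p.to_le (map_mono inf_le_left))
      (by rwa [Ne, map_eq_bot_iff_of_injective _ H.subtype_injective]) (map_subtype_le _) hyZ with
      h | h2
    · exact h
    have hN1 := hback J _ le_rfl h1
    have hN2 := hback Z (centralizer (Z : Set H)) (centralizer_le_normalizer _) h2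
    obtain ⟨R, N, hNn, hNc⟩ := (Cfsg.Agent.S0108.result hq2 Q).2
      ⟨hasNormalPComplement_of_isNilpotent _, hasNormalPComplement_of_isNilpotent _⟩
    have hNcop : (Nat.card N).Coprime q := by
      rw [← hNc.index_eq_card, Nat.coprime_comm, hq.coprime_iff_not_dvd]
      exact R.not_dvd_index
    have hNle : N ≤ Cfsg.pPrimeCore q H := Cores.le_pPrimeCore hNn hNcop
    by_cases hKb : Cfsg.pPrimeCore q H = ⊥
    · have hNb : N = ⊥ := le_bot_iff.1 (hKb ▸ hNle)
      rw [hNb, isComplement'_bot_left] at hNc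
      have h3 : IsPGroup q (⊤ : Subgroup H) := hNc ▸ R.2
      exact Group.isNilpotent_top.1 h3.isNilpotent
    set M := (Cfsg.pPrimeCore q H).map H.subtype with hM
    have hMn : M.Normal := Cores.normal_map_subtype_of_characteristic _
    have hMne : M ≠ ⊥ := by rwa [hM, Ne, map_eq_bot_iff_of_injective _ H.subtype_injective]
    have hMH : M ≤ H := map_subtype_le _
    refine hnormal M hMn hMH hMne ?_
    -- `M` is nilpotent by induction inside `M⟨y⟩`
    set L := zpowers y ⊔ M
    have hLlt : Nat.card L < Nat.card G := by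
      have h1 := Nat.le_of_dvd (Nat.mul_pos Nat.card_pos Nat.card_pos)
        (Cores.card_sup_dvd_mul (zpowers y) M)
      have hMlt : Nat.card M < Nat.card H := by
        refine lt_of_le_of_ne (card_le_of_le hMH) fun he => ?_
        rw [hM, card_map_of_injective H.subtype_injective] at he
        exact Cores.not_dvd_card_pPrimeCore (p := q) (G := H) (he.symm ▸ hqH)
      have h2 : orderOf y ∣ p := orderOf_dvd_of_pow_eq_one (hout y hy)
      have h3 : orderOf y ≤ H.index := by
        have h4 : orderOf y = p := (hp.eq_one_or_self_of_dvd _ h2).resolve_left fun h =>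
          hy (orderOf_eq_one_iff.1 h ▸ one_mem H)
        obtain ⟨d, hd⟩ : p ∣ H.index := by
          have h5 : (QuotientGroup.mk' H y) ^ p = 1 := by rw [← map_pow, hout y hy, map_one]
          have h6 : orderOf (QuotientGroup.mk' H y) = p :=
            (hp.eq_one_or_self_of_dvd _ (orderOf_dvd_of_pow_eq_one h5)).resolve_left fun h =>
              hy ((QuotientGroup.eq_one_iff y).1 (orderOf_eq_one_iff.1 h))
          exact h6 ▸ orderOf_dvd_natCard _
        rw [h4]
        exact Nat.le_of_dvd (Nat.pos_of_ne_zero index_ne_zero_of_finite) ⟨d, hd⟩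
      calc Nat.card L ≤ Nat.card (zpowers y) * Nat.card M := h1
        _ ≤ H.index * Nat.card M := Nat.mul_le_mul_right _ (by rwa [Nat.card_zpowers])
        _ < H.index * Nat.card H :=
          Nat.mul_lt_mul_of_pos_left hMlt (Nat.pos_of_ne_zero index_ne_zero_of_finite)
        _ = Nat.card G := H.index_mul_card
    have hnil := ih L (by omega) (H.subgroupOf L) inferInstance
      (fun h => hy (subgroupOf_eq_top.1 h (mem_sup_left (mem_zpowers y))))
      (outside_subgroupOf hout _)
    have : Group.IsSolvable (H.subgroupOf L) := inferInstance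
    exact Group.isSolvable_of_isSolvable_injective
      (f := ((Subgroup.inclusion (le_sup_right : M ≤ L))).codRestrict (H.subgroupOf L)
        (fun z => hMH z.2))
      (fun a b h => Subgroup.inclusion_injective le_sup_right (congrArg Subtype.val h :))

/-- **Kegel's theorem.** -/
theorem isNilpotent_of_outside [Finite G] {p : ℕ} (hp : p.Prime) (H : Subgroup G) [H.Normal]
    (hne : H ≠ ⊤) (hout : ∀ g : G, g ∉ H → g ^ p = 1) : Group.IsNilpotent H :=
  isNilpotent_of_outside_aux hp _ G le_rfl H inferInstance hne hout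

/-- **Hughes–Thompson.** -/
theorem index_eq_of_outside [Finite G] {p : ℕ} (hp : p.Prime) (H : Subgroup G) [H.Normal]
    (hne : H ≠ ⊤) (hout : ∀ g : G, g ∉ H → g ^ p = 1) (hG : ¬ IsPGroup p G) : H.index = p := by
  have hfp : Fact p.Prime := ⟨hp⟩
  have hnil := isNilpotent_of_outside hp H hne hout
  obtain ⟨q, hq, hqH, hqp⟩ : ∃ q : ℕ, q.Prime ∧ q ∣ Nat.card H ∧ q ≠ p := by
    by_contra! h
    apply hG
    have hHp : IsPGroup p H := IsPGroup.of_card
      (Nat.eq_prime_pow_of_unique_prime_dvd Nat.card_pos.ne' fun {d} hd hdH => h d hd hdH)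
    intro g
    by_cases hg : g ∈ H
    · obtain ⟨k, hk⟩ := hHp ⟨g, hg⟩
      exact ⟨k, congrArg Subtype.val hk⟩
    · exact ⟨1, by rw [pow_one]; exact hout g hg⟩
  have hfq : Fact q.Prime := ⟨hq⟩
  obtain ⟨Q⟩ := (inferInstance : Nonempty (Sylow q H))
  have hQn : (Q : Subgroup H).Normal := inferInstance
  have : (Q : Subgroup H).Characteristic := Q.characteristic_of_normal hQn
  set W := (Q : Subgroup H).map H.subtype with hW
  have hWn : W.Normal := Cores.normal_map_subtype_of_characteristic _
  have hWp : IsPGroup q W := Q.2.map _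
  set V := (center W).map W.subtype with hVdef
  have hVn : V.Normal := Cores.normal_map_subtype_of_characteristic _
  have hVW : V ≤ W := map_subtype_le _
  have hVH : V ≤ H := hVW.trans (map_subtype_le _)
  have hVcomm : IsMulCommutative V := by
    refine ⟨⟨?_⟩⟩
    rintro ⟨_, a, ha, rfl⟩ ⟨_, b, hb, rfl⟩
    refine Subtype.ext ?_
    show (a : G) * b = b * a
    exact congrArg Subtype.val (mem_center_iff.1 hb a)
  have hVne : V ≠ ⊥ := by
    rw [Ne, hVdef, map_eq_bot_iff_of_injective _ W.subtype_injective]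
    have : Nontrivial W := (nontrivial_iff_ne_bot W).2 (by
      rw [Ne, hW, map_eq_bot_iff_of_injective _ H.subtype_injective]
      exact Q.ne_bot_of_dvd_card hqH)
    exact (nontrivial_iff_ne_bot _).1 hWp.center_nontrivial
  let ρ : G →* MulAut V := MulAut.conjNormal
  have hker : H ≤ ρ.ker := by
    have h1 : (ρ.ker).subgroupOf H = ⊤ := by
      refine Cores.eq_top_of_forall_sylow_le _ fun r hr => ?_
      have : Fact r.Prime := ⟨hr⟩
      obtain ⟨R⟩ := (inferInstance : Nonempty (Sylow r H))
      refine ⟨R, fun a ha => ?_⟩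
      rw [mem_subgroupOf, MonoidHom.mem_ker]
      refine MulEquiv.ext fun v => Subtype.ext ?_
      rw [MulAut.conjNormal_apply, MulAut.one_apply]
      obtain ⟨w, hwc, hwv⟩ := v.2
      obtain ⟨v', hv', hv'w⟩ := w.2
      have hvv : (v' : G) = (v : G) := hv'w.trans hwv
      rcases eq_or_ne r q with rfl | hrq
      · have ha' : (a : G) ∈ W := by
          have := Sylow.unique_of_normal Q hQn
          exact mem_map_of_mem H.subtype (Subsingleton.elim R Q ▸ ha)
        have h2 : (a : G) * (w : G) = (w : G) * a :=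
          congrArg Subtype.val (mem_center_iff.1 hwc ⟨a, ha'⟩)
        have hwv' : (w : G) = (v : G) := hwv
        rw [← hwv', h2, mul_inv_cancel_right]
      · have hd : Disjoint (R : Subgroup H) (Q : Subgroup H) := IsPGroup.disjoint_of_ne r q hrq _ _ R.2 Q.2
        have h2 := commute_of_normal_of_disjoint _ _ inferInstance hQn hd a v' ha hv'
        have h3 : (a : G) * (v' : G) = (v' : G) * a := congrArg Subtype.val h2.eq
        rw [← hvv, h3, mul_inv_cancel_right]
    exact subgroupOf_eq_top.1 h1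
  have hexp : ∀ a : G ⧸ H, a ^ p = 1 := by
    intro a
    obtain ⟨a, rfl⟩ := QuotientGroup.mk'_surjective H a
    by_cases ha : a ∈ H
    · rw [show QuotientGroup.mk' H a = 1 from (QuotientGroup.eq_one_iff a).2 ha, one_pow]
    · rw [← map_pow, hout a ha, map_one]
  have hQp : IsPGroup p (G ⧸ H) := fun a => ⟨1, by rw [pow_one]; exact hexp a⟩
  obtain ⟨n, hn⟩ := IsPGroup.iff_card.1 hQp
  have hn1 : n ≠ 0 := fun h0 => hne (index_eq_one.1 (hn.trans (by rw [h0, pow_zero])))
  by_contra hidx
  have hn2 : 2 ≤ n := by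
    by_contra h2
    exact hidx (hn.trans (by rw [show n = 1 by omega, pow_one]))
  obtain ⟨E, hE⟩ := Sylow.exists_subgroup_card_pow_prime (G := G ⧸ H) p
    ((pow_dvd_pow p hn2).trans (dvd_of_eq hn.symm))
  have hEc := IsPGroup.commutative_of_card_eq_prime_sq hE
  have hE1 : E ≠ ⊥ := fun h0 => by
    rw [h0, card_bot] at hE
    exact absurd hE.symm (by simp [hp.ne_one])
  obtain ⟨a, haE, ha1⟩ := (Subgroup.bot_or_exists_ne_one E).resolve_left hE1
  have hEa : ¬ E ≤ zpowers a := fun hle => by
    have h1 := card_le_of_le hle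
    rw [hE, Nat.card_zpowers] at h1
    have h2 : orderOf a ≤ p := Nat.le_of_dvd hp.pos (orderOf_dvd_of_pow_eq_one (hexp a))
    have := hp.one_lt
    nlinarith
  obtain ⟨b, hbE, hba⟩ := SetLike.not_le_iff_exists.1 hEa
  obtain ⟨x, rfl⟩ := QuotientGroup.mk'_surjective H a
  obtain ⟨y, rfl⟩ := QuotientGroup.mk'_surjective H b
  have hxH : x ∉ H := fun h => ha1 ((QuotientGroup.eq_one_iff x).2 h)
  have hyH : y ∉ H := fun h => hba ((show (QuotientGroup.mk' H y) = 1 from
    (QuotientGroup.eq_one_iff y).2 h) ▸ one_mem _)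
  have hcomm : Commute (ρ x) (ρ y) := by
    have h1 : QuotientGroup.mk' H (x * y) = QuotientGroup.mk' H (y * x) := by
      rw [map_mul, map_mul]
      exact congrArg Subtype.val (hEc ⟨_, haE⟩ ⟨_, hbE⟩)
    have h2 : ρ ((x * y)⁻¹ * (y * x)) = 1 := hker (QuotientGroup.eq.1 h1)
    rw [map_mul, map_inv, inv_mul_eq_one, map_mul, map_mul] at h2
    exact h2
  have hxy : ∀ i : ℕ, x * y ^ i ∉ H := by
    intro i h
    refine hba ?_
    have h1 : QuotientGroup.mk' H x * QuotientGroup.mk' H y ^ i = 1 := by
      rw [← map_pow, ← map_mul]; exact (QuotientGroup.eq_one_iff _).2 h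
    by_cases hdi : p ∣ i
    · obtain ⟨c, rfl⟩ := hdi
      rw [pow_mul, hexp, one_pow, mul_one] at h1
      exact absurd h1 ha1
    · have h2 : QuotientGroup.mk' H y ^ i ∈ zpowers (QuotientGroup.mk' H x) := by
        rw [eq_inv_of_mul_eq_one_right h1]
        exact inv_mem (mem_zpowers _)
      have hcop : (orderOf (QuotientGroup.mk' H y)).Coprime i :=
        ((hp.coprime_iff_not_dvd).2 hdi).coprime_dvd_left (orderOf_dvd_of_pow_eq_one (hexp _))
      obtain ⟨m, hm⟩ := exists_pow_eq_self_of_coprime (Nat.Coprime.symm hcop)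
      rw [← hm]
      exact pow_mem h2 m
  apply hVne
  rw [eq_bot_iff]
  intro v₀ hv₀
  set v : V := ⟨v₀, hv₀⟩
  have h1 : ∏ j ∈ Finset.range p, ∏ i ∈ Finset.range p, (ρ ((x * y ^ i) ^ j)) v = 1 := by
    rw [Finset.prod_comm]
    exact Finset.prod_eq_one fun i _ => norm_eq_one hout V hVH (hxy i) v
  obtain ⟨s, rfl⟩ : ∃ s, p = s + 1 := ⟨p - 1, by have := hp.one_lt; omega⟩
  rw [Finset.prod_range_succ'] at h1
  have h2 : ∀ j ∈ Finset.range s, ∏ i ∈ Finset.range (s + 1), (ρ ((x * y ^ i) ^ (j + 1))) v = 1 := by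
    intro j hj
    rw [Finset.mem_range] at hj
    have hstep : ∀ i, ρ ((x * y ^ i) ^ (j + 1)) v =
        ρ (x ^ (j + 1)) (ρ (y ^ ((i * (j + 1)) % (s + 1))) v) := by
      intro i
      have hyp : ρ y ^ (s + 1) = 1 := by rw [← map_pow, hout y hyH, map_one]
      rw [← MulAut.mul_apply, map_pow, map_mul, map_pow, map_pow, map_pow,
        (hcomm.pow_right i).mul_pow, ← pow_mul, pow_eq_pow_mod (i * (j + 1)) hyp]
    simp only [hstep, ← map_prod]
    rw [map_eq_one_iff _ (ρ (x ^ (j + 1))).injective]
    rw [← norm_eq_one hout V hVH hyH v]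
    have hmap : Set.MapsTo (fun i => i * (j + 1) % (s + 1)) (Finset.range (s + 1)) (Finset.range (s + 1)) :=
      fun i _ => Finset.mem_range.2 (Nat.mod_lt _ (Nat.succ_pos s))
    refine Finset.prod_nbij (fun i => i * (j + 1) % (s + 1)) hmap ?_ ?_ fun i _ => rfl
    all_goals
      have hinj : Set.InjOn (fun i => i * (j + 1) % (s + 1)) (Finset.range (s + 1)) := by
        intro i hi k hk hik
        simp only [Finset.coe_range, Set.mem_Iio] at hi hk
        have h3 : i * (j + 1) ≡ k * (j + 1) [MOD (s + 1)] := hik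
        have h4 := Nat.ModEq.cancel_right_of_coprime (c := j + 1) (by
          rw [← Nat.coprime_iff_gcd_eq_one, hp.coprime_iff_not_dvd]
          exact fun hdd => absurd (Nat.le_of_dvd (Nat.succ_pos j) hdd) (by omega)) h3
        rw [Nat.ModEq, Nat.mod_eq_of_lt hi, Nat.mod_eq_of_lt hk] at h4
        exact h4
    · exact hinj
    · exact Finset.surjOn_of_injOn_of_card_le _ hmap hinj le_rfl
  rw [Finset.prod_eq_one h2, one_mul] at h1
  simp only [pow_zero, map_one, MulAut.one_apply, Finset.prod_const, Finset.card_range] at h1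
  obtain ⟨k, hk⟩ := IsPGroup.iff_card.1 (hWp.to_le hVW)
  exact mem_bot.2 (congrArg Subtype.val (orderOf_eq_one_iff.1 (Nat.eq_one_of_dvd_coprimes
    (((Nat.coprime_primes hp hq).2 hqp.symm).pow_right k) (orderOf_dvd_of_pow_eq_one h1)
    (hk ▸ orderOf_dvd_natCard v))) :)

end Cfsg.Agent.Solvable
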